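import Groth.Prelude.Def_W4c1liftfrobW2
import Groth.Prelude.Def_Frob
import Groth.Agent.EtGlueLib.UnivHomeoMain
import Groth.Agent.TopInv.Basic

/-!
# Lifts over `W₂` of étale schemes with Frobenius
-/

set_option autoImplicit false
set_option backward.isDefEq.respectTransparency false
set_option linter.style.haveILetI false

universe u

open CategoryTheory CategoryTheory.Limits AlgebraicGeometry

noncomputable section

namespace Groth.Agent.W2EtLib

variable (p : ℕ) [Fact p.Prime] (k : Type u) [Field k] [CharP k p]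

/-- An element of `W₂` with vanishing residue has square zero. -/
theorem sq_eq_zero {x : FrobAlg.W2 p k} (hx : FrobAlg.res p k x = 0) : x ^ 2 = 0 := by
  obtain ⟨X, rfl⟩ := WittVector.truncate_surjective p 2 k x
  rw [FrobAlg.res_truncate] at hx
  obtain ⟨Y, rfl⟩ : ∃ Y, X = WittVector.verschiebung Y := by
    refine ⟨WittVector.shift X 1, ?_⟩
    have := WittVector.eq_iterate_verschiebung (x := X) (n := 1) fun i hi => by
      obtain rfl : i = 0 := by omega
      exact hx
    simpa using this
  rw [← map_pow, pow_two, ← WittVector.verschiebung_mul_frobenius]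
  apply RingHom.mem_ker.1
  rw [WittVector.mem_ker_truncate]
  intro i hi
  rcases Nat.le_one_iff_eq_zero_or_eq_one.1 (Nat.lt_succ_iff.1 hi) with rfl | rfl
  · exact WittVector.verschiebung_coeff_zero _
  · rw [WittVector.verschiebung_coeff_succ, WittVector.mul_coeff_zero, WittVector.coeff_frobenius_charP,
      WittVector.verschiebung_coeff_zero, zero_pow (Fact.out : p.Prime).ne_zero, mul_zero]

theorem surjective_res : Function.Surjective (FrobAlg.res p k) := fun a => by
  refine ⟨WittVector.truncate 2 (WittVector.teichmuller p a), ?_⟩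
  rw [FrobAlg.res_truncate, WittVector.teichmuller_coeff_zero]

/-- The closed point of `Spec W₂`. -/
theorem surjective_specMap : Surjective (Spec.map (CommRingCat.ofHom (FrobAlg.res p k))) := by
  refine ⟨fun q => ?_⟩
  have hk : RingHom.ker (FrobAlg.res p k) ≤ q.asIdeal := fun x hx => by
    refine q.isPrime.mem_of_pow_mem 2 ?_
    rw [sq_eq_zero p k hx]
    exact zero_mem _
  have h2 : q ∈ Set.range (PrimeSpectrum.comap (FrobAlg.res p k)) := by
    rw [range_comap_of_surjective _ _ (surjective_res p k)]
    exact hk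
  exact h2

/-- An étale scheme over the reduction of a lift of Frobenius has a lift of Frobenius. -/
theorem exists_frobLift {X Y : Scheme.{u}} (f : X ⟶ Spec (CommRingCat.of k)) (q : Y ⟶ X) [Etale q]
    [FrobSch.IsCharP X p] [FrobSch.IsCharP Y p] (Xl : Scheme.{u}) (g : Xl ⟶ Spec (CommRingCat.of (FrobAlg.W2 p k)))
    [Flat g] (i : X ⟶ Xl) (hsq : IsPullback i f g (Spec.map (CommRingCat.ofHom (FrobAlg.res p k))))
    (Fl : Xl ⟶ Xl) (hF : i ≫ Fl = FrobSch.frob X p ≫ i) :
    ∃ (Yl : Scheme.{u}) (gY : Yl ⟶ Spec (CommRingCat.of (FrobAlg.W2 p k))) (j : Y ⟶ Yl) (Gl : Yl ⟶ Yl),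
      Flat gY ∧ IsPullback j (q ≫ f) gY (Spec.map (CommRingCat.ofHom (FrobAlg.res p k))) ∧
        j ≫ Gl = FrobSch.frob Y p ≫ j := by
  haveI : IsClosedImmersion (Spec.map (CommRingCat.ofHom (FrobAlg.res p k))) :=
    IsClosedImmersion.spec_of_surjective _ (surjective_res p k)
  haveI := surjective_specMap p k
  haveI : IsClosedImmersion i := MorphismProperty.of_isPullback hsq.flip inferInstance
  haveI : Surjective i := MorphismProperty.of_isPullback hsq.flip inferInstance
  obtain ⟨Yl, v, j, hv, hj⟩ := EtGlueLib.exists_isPullback (f := i) (u := q) fun z =>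
    EtGlueLib.exists_model_univHomeo i q z
  haveI := hv
  haveI : IsClosedImmersion j := MorphismProperty.of_isPullback hj.flip inferInstance
  haveI : Surjective j := MorphismProperty.of_isPullback hj.flip inferInstance
  obtain ⟨Gl, -, hG⟩ := TopInv.exists_desc v (v ≫ Fl) j (FrobSch.frob Y p ≫ j) (by
    rw [Category.assoc, hj.w, ← Category.assoc, FrobSch.frob_comp p q, Category.assoc, ← hF, ← Category.assoc, ← hj.w,
      Category.assoc])
  exact ⟨Yl, v ≫ g, j, Gl, inferInstance, hj.paste_vert hsq, hG⟩

end Groth.Agent.W2EtLib
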